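import Mathlib.RingTheory.MvPolynomial.MonomialOrder
import Mathlib.LinearAlgebra.LinearIndependent.Basic
import Mathlib.Data.Prod.Lex

/-!
General lemmas on leading terms: families of monic polynomials with distinct leading exponents are linearly
independent; leading term of a sum of monomials with a strictly largest exponent.
-/

set_option autoImplicit false

open MvPolynomial

open scoped MonomialOrder

namespace K677.MonOrd

variable {R : Type*} [CommRing R] {σ : Type*} (m : MonomialOrder σ)

/-- monic polynomials with distinct leading exponents are linearly independent -/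
theorem linearIndependent_of_degree_injective {ι : Type*} (f : ι → MvPolynomial σ R)
    (hm : ∀ i, m.Monic (f i)) (hinj : Function.Injective fun i => m.degree (f i)) :
    LinearIndependent R f := by
  classical
  rw [linearIndependent_iff']
  intro s g hg
  by_contra hcon
  push Not at hcon
  obtain ⟨i1, hi1, hgi1⟩ := hcon
  obtain ⟨i0, hi0, hmax⟩ := Finset.exists_max_image (s.filter fun i => g i ≠ 0)
    (fun i => m.toSyn (m.degree (f i))) ⟨i1, Finset.mem_filter.2 ⟨hi1, hgi1⟩⟩
  rw [Finset.mem_filter] at hi0
  apply hi0.2
  have h1 := congrArg (coeff (m.degree (f i0))) hg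
  rw [coeff_sum, coeff_zero, Finset.sum_eq_single i0] at h1
  · rw [coeff_smul, (hm i0).coeff_degree, smul_eq_mul, mul_one] at h1
    exact h1
  · intro i hi hne
    rw [coeff_smul]
    by_cases hgi : g i = 0
    · rw [hgi, zero_smul]
    · have h2 := hmax i (Finset.mem_filter.2 ⟨hi, hgi⟩)
      have h3 : m.degree (f i) ≺[m] m.degree (f i0) := by
        refine lt_of_le_of_ne h2 (fun h => hne (hinj ?_))
        exact m.toSyn.injective h
      rw [m.coeff_eq_zero_of_lt h3, smul_zero]
  · intro h
    exact absurd hi0.1 h

/-- leading term of a sum of monomials with one strictly largest exponent -/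
theorem monic_sum {ι : Type*} [DecidableEq ι] (s : Finset ι) (c : ι → R) (e : ι → (σ →₀ ℕ)) (i0 : ι)
    (hi0 : i0 ∈ s) (hc : c i0 = 1) (hlt : ∀ i ∈ s, i ≠ i0 → c i ≠ 0 → e i ≺[m] e i0) :
    m.Monic (∑ i ∈ s, monomial (e i) (c i)) ∧
      (Nontrivial R → m.degree (∑ i ∈ s, monomial (e i) (c i)) = e i0) := by
  classical
  rcases subsingleton_or_nontrivial R with hR | hR
  · exact ⟨MonomialOrder.Monic.of_subsingleton, fun h => absurd hR (not_subsingleton_iff_nontrivial.2 h)⟩
  set f := ∑ i ∈ s, monomial (e i) (c i) with hf
  have hcoeff : coeff (e i0) f = 1 := by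
    rw [hf, coeff_sum, Finset.sum_eq_single i0]
    · rw [coeff_monomial, if_pos rfl, hc]
    · intro i hi hne
      by_cases hci : c i = 0
      · simp [hci]
      · rw [coeff_monomial, if_neg]
        intro h
        have := hlt i hi hne hci
        rw [h] at this
        exact lt_irrefl _ this
    · intro h; exact absurd hi0 h
  have hle : m.degree f ≼[m] e i0 := by
    rw [m.degree_le_iff]
    intro b hb
    rw [hf] at hb
    have hb' := MvPolynomial.support_sum hb
    rw [Finset.mem_biUnion] at hb'
    obtain ⟨i, hi, hbi⟩ := hb'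
    rw [MvPolynomial.support_monomial] at hbi
    split_ifs at hbi with hci
    · simp at hbi
    · rw [Finset.mem_singleton] at hbi
      subst hbi
      by_cases hii : i = i0
      · rw [hii]
      · exact (hlt i hi hii hci).le
  have hge : e i0 ≼[m] m.degree f := by
    apply m.le_degree
    rw [mem_support_iff, hcoeff]
    exact one_ne_zero
  have hdeg : m.degree f = e i0 := m.toSyn.injective (le_antisymm hle hge)
  refine ⟨?_, fun _ => hdeg⟩
  unfold MonomialOrder.Monic MonomialOrder.leadingCoeff
  rw [hdeg]; exact hcoeff

/-- the monomial order on `σ →₀ ℕ` pulled back from a lexicographic order along an equivalence `σ ≃ τ` -/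
noncomputable def lexOf {τ : Type*} [LinearOrder τ] [WellFoundedGT τ] (g : σ ≃ τ) : MonomialOrder σ where
  syn := Lex (τ →₀ ℕ)
  toSyn := (Finsupp.domCongr g).trans
    { toEquiv := toLex
      map_add' := toLex_add }
  toSyn_monotone := by
    intro a b hab
    apply Finsupp.toLex_monotone
    intro x
    exact hab (g.symm x)

/-- criterion for the order `lexOf g`: equal before `x0`, smaller at `x0` -/
theorem lexOf_lt {τ : Type*} [LinearOrder τ] [WellFoundedGT τ] (g : σ ≃ τ) (a b : σ →₀ ℕ) (x0 : σ)
    (heq : ∀ x, g x < g x0 → a x = b x) (hlt : a x0 < b x0) : a ≺[lexOf g] b := by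
  show toLex (Finsupp.domCongr g a) < toLex (Finsupp.domCongr g b)
  rw [Finsupp.Lex.lt_iff]
  refine ⟨g x0, ?_, ?_⟩
  · intro y hy
    have := heq (g.symm y) (by rwa [Equiv.apply_symm_apply])
    simpa using this
  · simpa using hlt

end K677.MonOrd
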