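import Groth.Prelude.Def_W4bk4grassmannianPl
import Groth.Agent.W4bk4grassmannian.K677.MonOrd
import Mathlib.Algebra.MvPolynomial.Funext
import Mathlib.LinearAlgebra.Matrix.Determinant.Basic
import Mathlib.GroupTheory.Perm.Sign

/-!
Linear independence of standard monomials on Schubert varieties (Grassmannian), by leading monomials.
-/

set_option autoImplicit false

open MvPolynomial W4bk4grassmannian

open scoped MonomialOrder

universe u

namespace K677.LIGr

section comb

variable {d n : ℕ}

/-- a permutation of `Fin d` different from the identity first moves some `s0`, to something bigger,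
and preserves `{≥ s0}` -/
lemma perm_first (σ : Equiv.Perm (Fin d)) (hσ : σ ≠ 1) :
    ∃ s0 : Fin d, (∀ j < s0, σ j = j) ∧ s0 < σ s0 ∧ ∀ j, s0 ≤ j → s0 ≤ σ j := by
  classical
  have hex : ∃ k : ℕ, ∃ hk : k < d, σ ⟨k, hk⟩ ≠ ⟨k, hk⟩ := by
    by_contra hcon
    push Not at hcon
    exact hσ (Equiv.ext fun x => hcon x.1 x.2)
  obtain ⟨hk, hne⟩ := Nat.find_spec hex
  set k := Nat.find hex with hkdef
  have hmin : ∀ j : Fin d, j < ⟨k, hk⟩ → σ j = j := by
    intro j hj
    have := Nat.find_min hex (show j.val < Nat.find hex from hj)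
    push Not at this
    exact this j.2
  have hge : ∀ j, (⟨k, hk⟩ : Fin d) ≤ j → (⟨k, hk⟩ : Fin d) ≤ σ j := by
    intro j hj
    by_contra hlt
    push Not at hlt
    have h1 := hmin _ hlt
    have h2 := σ.injective h1
    rw [h2] at hlt
    exact absurd hj (not_le.2 hlt)
  refine ⟨⟨k, hk⟩, hmin, lt_of_le_of_ne (hge _ le_rfl) (Ne.symm hne), hge⟩

/-- exponent of the monomial `∏_t x_{a t, t}` -/
noncomputable def colExp (a : Fin d → Fin n) : Fin n × Fin d →₀ ℕ :=
  ∑ t : Fin d, Finsupp.single (a t, t) 1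

lemma colExp_apply (a : Fin d → Fin n) (i : Fin n) (j : Fin d) :
    colExp a (i, j) = if a j = i then 1 else 0 := by
  classical
  unfold colExp
  rw [Finsupp.finsetSum_apply, Finset.sum_eq_single j]
  · rw [Finsupp.single_apply]
    by_cases h : a j = i
    · rw [if_pos h, if_pos (by rw [h])]
    · rw [if_neg h, if_neg (by simp [h])]
  · intro t _ ht
    rw [Finsupp.single_apply, if_neg]
    intro h
    exact ht (congrArg Prod.snd h)
  · intro h; exact absurd (Finset.mem_univ _) h

/-- row-major lexicographic order (small indices give large variables) -/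
noncomputable def ord (n d : ℕ) : MonomialOrder (Fin n × Fin d) :=
  MonOrd.lexOf (toLex : Fin n × Fin d ≃ Fin n ×ₗ Fin d)

lemma colExp_perm_lt (a : Fin d → Fin n) (ha : StrictMono a) (σ : Equiv.Perm (Fin d)) (hσ : σ ≠ 1) :
    colExp (fun t => a (σ t)) ≺[ord n d] colExp a := by
  obtain ⟨s0, h1, h2, h3⟩ := perm_first σ hσ
  apply MonOrd.lexOf_lt _ _ _ (a s0, s0)
  · rintro ⟨i, j⟩ hij
    rw [Prod.Lex.toLex_lt_toLex] at hij
    simp only at hij
    rw [colExp_apply, colExp_apply]
    by_cases hj : j < s0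
    · rw [h1 j hj]
    · have hj' := not_lt.1 hj
      rcases hij with hij | ⟨_, hij⟩
      · have e1 : a s0 ≤ a j := ha.monotone hj'
        have e2 : a s0 ≤ a (σ j) := ha.monotone (h3 j hj')
        rw [if_neg (lt_of_lt_of_le hij e2).ne', if_neg (lt_of_lt_of_le hij e1).ne']
      · exact absurd hij hj
  · rw [colExp_apply, colExp_apply, if_pos rfl, if_neg]
    · exact Nat.zero_lt_one
    · intro h
      exact h2.ne (ha.injective h).symm

end comb

section res

variable (K : Type u) [CommRing K] {d n : ℕ}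

open scoped Classical in
/-- substitution `x_{ij} ↦ 0` unless `P i j` -/
noncomputable def res (P : Fin n → Fin d → Prop) : MatRing K d n →ₐ[K] MatRing K d n :=
  MvPolynomial.aeval fun p => if P p.1 p.2 then X p else 0

lemma res_X (P : Fin n → Fin d → Prop) (i : Fin n) (j : Fin d) (h : P i j) :
    res K P (X (i, j)) = X (i, j) := by
  unfold res
  rw [aeval_X]
  exact if_pos h

lemma res_X_of_not (P : Fin n → Fin d → Prop) (i : Fin n) (j : Fin d) (h : ¬ P i j) :
    res K P (X (i, j)) = 0 := by
  unfold res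
  rw [aeval_X]
  exact if_neg h

open scoped Classical in
lemma res_minor (P : Fin n → Fin d → Prop) (a : Fin d → Fin n) :
    res K P (minor K d n a) = ∑ σ : Equiv.Perm (Fin d), monomial (colExp fun t => a (σ t))
      (if ∀ t, P (a (σ t)) t then ((Equiv.Perm.sign σ : ℤ) : K) else 0) := by
  unfold minor
  rw [Matrix.det_apply', map_sum]
  apply Finset.sum_congr (by congr!)
  intro σ _
  rw [map_mul, map_prod, map_intCast]
  simp only [Matrix.of_apply]
  by_cases h : ∀ t, P (a (σ t)) t
  · rw [if_pos h]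
    have h2 : ∏ x : Fin d, res K P (X (a (σ x), x)) = monomial (colExp fun t => a (σ t)) 1 := by
      unfold colExp
      rw [monomial_sum_one]
      apply Finset.prod_congr rfl
      intro t _
      rw [res_X K P _ _ (h t)]
      rfl
    rw [h2, ← map_intCast (C : K →+* MatRing K d n), C_mul_monomial, mul_one]
  · rw [if_neg h]
    push Not at h
    obtain ⟨t, ht⟩ := h
    rw [Finset.prod_eq_zero (Finset.mem_univ t) (res_X_of_not K P _ _ ht)]
    simp

/-- patterns for which a minor whose diagonal is not in the pattern vanishes -/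
def Good (P : Fin n → Fin d → Prop) : Prop :=
  ∀ (φ : Idx d n) (σ : Equiv.Perm (Fin d)), (∀ t, P (φ.1 (σ t)) t) → ∀ t, P (φ.1 t) t

lemma good_le (w : Fin d → Fin n) (hw : Monotone w) : Good (fun (i : Fin n) (j : Fin d) => i ≤ w j) := by
  intro φ σ hσ s
  by_contra hlt
  have hlt' : w s < φ.1 s := not_le.1 hlt
  -- all t ≤ s have σ t < s
  have h1 : ∀ t, t ≤ s → σ t < s := by
    intro t ht
    by_contra hge
    have h2 : φ.1 s ≤ φ.1 (σ t) := φ.2.monotone (not_lt.1 hge)
    have h3 : w t ≤ w s := hw ht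
    exact absurd (hσ t) (not_le.2 (lt_of_le_of_lt h3 (lt_of_lt_of_le hlt' h2)))
  have h4 : (Finset.Iic s).card ≤ (Finset.Iio s).card := by
    apply Finset.card_le_card_of_injOn σ
    · intro t ht
      simp only [Finset.coe_Iic, Set.mem_Iic] at ht
      simp only [Finset.coe_Iio, Set.mem_Iio]
      exact h1 t ht
    · exact σ.injective.injOn
  rw [Fin.card_Iic, Fin.card_Iio] at h4
  omega

lemma good_ge (v : Fin d → Fin n) (hv : Monotone v) : Good (fun (i : Fin n) (j : Fin d) => v j ≤ i) := by
  intro φ σ hσ s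
  by_contra hlt
  have hlt' : φ.1 s < v s := not_le.1 hlt
  have h1 : ∀ t, s ≤ t → s < σ t := by
    intro t ht
    by_contra hge
    have h2 : φ.1 (σ t) ≤ φ.1 s := φ.2.monotone (not_lt.1 hge)
    have h3 : v s ≤ v t := hv ht
    exact absurd (hσ t) (not_le.2 (lt_of_lt_of_le (lt_of_le_of_lt h2 hlt') h3))
  have h4 : (Finset.Ici s).card ≤ (Finset.Ioi s).card := by
    apply Finset.card_le_card_of_injOn σ
    · intro t ht
      simp only [Finset.coe_Ici, Set.mem_Ici] at ht
      simp only [Finset.coe_Ioi, Set.mem_Ioi]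
      exact h1 t ht
    · exact σ.injective.injOn
  rw [Fin.card_Ici, Fin.card_Ioi] at h4
  have := s.2
  omega

lemma Good.and {P Q : Fin n → Fin d → Prop} (hP : Good P) (hQ : Good Q) :
    Good (fun (i : Fin n) (j : Fin d) => P i j ∧ Q i j) :=
  fun φ σ h t => ⟨hP φ σ (fun t => (h t).1) t, hQ φ σ (fun t => (h t).2) t⟩

lemma good_true : Good (fun (_ : Fin n) (_ : Fin d) => True) := fun _ _ _ _ => trivial

/-- the pattern of the Schubert variety `X(w)` -/
abbrev Sch (w : Idx d n) : Fin n → Fin d → Prop := fun i j => i ≤ w.1 j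

lemma good_sch (w : Idx d n) : Good (Sch w) := good_le w.1 w.2.monotone

lemma res_minor_eq_zero {P : Fin n → Fin d → Prop} (hP : Good P) (φ : Idx d n) (h : ¬ ∀ t, P (φ.1 t) t) :
    res K P (minor K d n φ.1) = 0 := by
  classical
  rw [res_minor]
  apply Finset.sum_eq_zero
  intro σ _
  rw [if_neg, map_zero]
  intro hσ
  exact h (hP φ σ hσ)

lemma monic_res_minor (P : Fin n → Fin d → Prop) (φ : Idx d n) (h : ∀ t, P (φ.1 t) t) :
    (ord n d).Monic (res K P (minor K d n φ.1)) := by
  classical
  rw [res_minor]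
  refine (MonOrd.monic_sum (ord n d) Finset.univ _ _ 1 (Finset.mem_univ _) ?_ ?_).1
  · rw [if_pos (fun t => by simpa using h t)]
    simp
  · intro σ _ hσ _
    exact colExp_perm_lt φ.1 φ.2 σ hσ

lemma degree_res_minor [Nontrivial K] (P : Fin n → Fin d → Prop) (φ : Idx d n) (h : ∀ t, P (φ.1 t) t) :
    (ord n d).degree (res K P (minor K d n φ.1)) = colExp φ.1 := by
  classical
  rw [res_minor]
  refine (MonOrd.monic_sum (ord n d) Finset.univ _ _ 1 (Finset.mem_univ _) ?_ ?_).2 inferInstance
  · rw [if_pos (fun t => by simpa using h t)]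
    simp
  · intro σ _ hσ _
    exact colExp_perm_lt φ.1 φ.2 σ hσ

/-- the Plücker comorphism followed by the substitution `x_{ij} ↦ 0` unless `P i j` -/
noncomputable def plRes (P : Fin n → Fin d → Prop) : PlRing K d n →ₐ[K] MatRing K d n :=
  (res K P).comp (pluckerMap K d n)

lemma plRes_X (P : Fin n → Fin d → Prop) (φ : Idx d n) : plRes K P (X φ) = res K P (minor K d n φ.1) := by
  unfold plRes pluckerMap
  rw [AlgHom.comp_apply, aeval_X]

lemma plRes_X_eq_zero {P : Fin n → Fin d → Prop} (hP : Good P) (φ : Idx d n) (h : ¬ ∀ t, P (φ.1 t) t) :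
    plRes K P (X φ) = 0 := by
  rw [plRes_X, res_minor_eq_zero K hP φ h]

open scoped Classical in
/-- the restricted Plücker comorphism as evaluation at the minors of the matrix of the variables in the pattern -/
lemma plRes_eq_aeval (P : Fin n → Fin d → Prop) : plRes K P =
    MvPolynomial.aeval (fun θ : Idx d n => (Matrix.submatrix (Matrix.of fun i j =>
      if P i j then (X (i, j) : MatRing K d n) else 0) θ.1 id).det) := by
  apply MvPolynomial.algHom_ext
  intro θ
  rw [plRes_X, aeval_X]
  unfold minor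
  rw [AlgHom.map_det]
  congr 1
  apply Matrix.ext
  intro s t
  rw [AlgHom.mapMatrix_apply, Matrix.map_apply, Matrix.submatrix_apply, Matrix.of_apply, Matrix.of_apply]
  by_cases h : P (θ.1 s) t
  · rw [res_X K P _ _ h]; exact (if_pos h).symm
  · rw [res_X_of_not K P _ _ h]; exact (if_neg h).symm

lemma plRes_chainMon (P : Fin n → Fin d → Prop) {m : ℕ} (c : Fin m → Idx d n) :
    plRes K P (chainMon K c) = ∏ k, res K P (minor K d n (c k).1) := by
  unfold chainMon
  rw [map_prod]
  apply Finset.prod_congr rfl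
  intro k _
  rw [plRes_X]

lemma plRes_chainMon_eq_zero {P : Fin n → Fin d → Prop} (hP : Good P) {m : ℕ} (c : Fin m → Idx d n) (k : Fin m)
    (h : ¬ ∀ t, P ((c k).1 t) t) : plRes K P (chainMon K c) = 0 := by
  rw [plRes_chainMon]
  exact Finset.prod_eq_zero (Finset.mem_univ k) (res_minor_eq_zero K hP _ h)

lemma monic_plRes_chainMon (P : Fin n → Fin d → Prop) {m : ℕ} (c : Fin m → Idx d n) (h : ∀ k t, P ((c k).1 t) t) :
    (ord n d).Monic (plRes K P (chainMon K c)) := by
  rw [plRes_chainMon]
  exact MonomialOrder.Monic.prod fun k _ => monic_res_minor K P (c k) (h k)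

lemma degree_plRes_chainMon [Nontrivial K] (P : Fin n → Fin d → Prop) {m : ℕ} (c : Fin m → Idx d n)
    (h : ∀ k t, P ((c k).1 t) t) :
    (ord n d).degree (plRes K P (chainMon K c)) = ∑ k, colExp (c k).1 := by
  rw [plRes_chainMon, MonomialOrder.degree_prod_of_regular]
  · apply Finset.sum_congr rfl
    intro k _
    exact degree_res_minor K P (c k) (h k)
  · intro k _
    rw [(monic_res_minor K P (c k) (h k)).leadingCoeff_eq_one]
    exact isRegular_one

end res

section inj

variable {d n : ℕ}

/-- a lower set of `Fin m` is an initial segment of length its cardinality -/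
lemma mem_iff_lt_card {m : ℕ} (s : Finset (Fin m)) (hs : ∀ i j : Fin m, i ≤ j → j ∈ s → i ∈ s) (k : Fin m) :
    k ∈ s ↔ k.val < s.card := by
  classical
  constructor
  · intro hk
    have h1 : Finset.Iic k ⊆ s := fun i hi => hs i k (Finset.mem_Iic.1 hi) hk
    have h2 := Finset.card_le_card h1
    rw [Fin.card_Iic] at h2
    omega
  · intro hk
    by_contra hcon
    have h1 : s ⊆ Finset.Iio k := by
      intro i hi
      rw [Finset.mem_Iio]
      by_contra hge
      exact hcon (hs k i (not_lt.1 hge) hi)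
    have h2 := Finset.card_le_card h1
    rw [Fin.card_Iio] at h2
    omega

lemma sum_colExp_apply {m : ℕ} (c : Fin m → Idx d n) (i : Fin n) (j : Fin d) :
    (∑ k, colExp (c k).1) (i, j) = (Finset.univ.filter fun k => (c k).1 j = i).card := by
  classical
  rw [Finsupp.finsetSum_apply, Finset.card_filter]
  apply Finset.sum_congr rfl
  intro k _
  rw [colExp_apply]

/-- the entries of an antitone tuple are recovered from the exponent -/
lemma le_iff_of_antitone {m : ℕ} (c : Fin m → Idx d n) (hc : Antitone c) (i : Fin n) (j : Fin d) (k : Fin m) :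
    i ≤ (c k).1 j ↔ k.val < ∑ i' ∈ Finset.univ.filter (fun i' => i ≤ i'), (∑ k, colExp (c k).1) (i', j) := by
  classical
  have h1 : ∑ i' ∈ Finset.univ.filter (fun i' => i ≤ i'), (∑ k, colExp (c k).1) (i', j) =
      (Finset.univ.filter fun k => i ≤ (c k).1 j).card := by
    rw [Finset.card_eq_sum_card_fiberwise (f := fun k => (c k).1 j)
      (t := Finset.univ.filter (fun i' => i ≤ i'))]
    · apply Finset.sum_congr rfl
      intro i' hi'
      rw [sum_colExp_apply, Finset.filter_filter]
      congr 1
      ext k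
      simp only [Finset.mem_filter, Finset.mem_univ, true_and] at hi' ⊢
      constructor
      · rintro rfl; exact ⟨hi', rfl⟩
      · rintro ⟨_, h⟩; exact h
    · intro k hk
      simp only [Finset.coe_filter, Finset.mem_univ, true_and, Set.mem_ofPred_eq] at hk ⊢
      exact hk
  rw [h1, ← mem_iff_lt_card]
  · simp
  · intro k1 k2 hle hk2
    simp only [Finset.mem_filter, Finset.mem_univ, true_and] at hk2 ⊢
    exact le_trans hk2 (hc hle j)

lemma length_eq (hd : 0 < d) {m : ℕ} (c : Fin m → Idx d n) :
    ∑ i' : Fin n, (∑ k, colExp (c k).1) (i', ⟨0, hd⟩) = m := by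
  classical
  have h1 : ∑ i' : Fin n, (∑ k, colExp (c k).1) (i', ⟨0, hd⟩) = (Finset.univ : Finset (Fin m)).card := by
    rw [Finset.card_eq_sum_card_fiberwise (f := fun k => (c k).1 ⟨0, hd⟩) (t := Finset.univ)]
    · apply Finset.sum_congr rfl
      intro i' _
      rw [sum_colExp_apply]
    · intro k _; simp
  rw [h1]; simp

/-- distinct antitone tuples have distinct exponents -/
theorem exp_injective (hd : 0 < d) :
    Function.Injective fun c : (Σ m : ℕ, {c : Fin m → Idx d n // Antitone c}) =>
      ∑ k, colExp (c.2.1 k).1 := by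
  rintro ⟨m, c, hc⟩ ⟨m', c', hc'⟩ h
  simp only at h
  have hm : m = m' := by
    rw [← length_eq hd c, ← length_eq hd c', h]
  subst hm
  congr 1
  apply Subtype.ext
  funext k
  apply Subtype.ext
  funext j
  apply le_antisymm
  · rw [le_iff_of_antitone c' hc', ← h, ← le_iff_of_antitone c hc]
  · rw [le_iff_of_antitone c hc, h, ← le_iff_of_antitone c' hc']

end inj

section LI

variable (K : Type u) [CommRing K] {d n : ℕ}

/-- standard monomials in the pattern `P` are linearly independent after restriction to the matrices with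
`x_{ij} = 0` unless `P i j` (any commutative ring, any pattern) -/
theorem linearIndependent_plRes (hd : 0 < d) (P : Fin n → Fin d → Prop) :
    LinearIndependent K (fun c : (Σ m : ℕ, {c : Fin m → Idx d n // Antitone c ∧ ∀ k t, P ((c k).1 t) t}) =>
      plRes K P (chainMon K c.2.1)) := by
  nontriviality K
  apply MonOrd.linearIndependent_of_degree_injective (ord n d)
  · intro c
    exact monic_plRes_chainMon K P c.2.1 c.2.2.2
  · intro c c' h
    simp only at h
    rw [degree_plRes_chainMon K P _ c.2.2.2, degree_plRes_chainMon K P _ c'.2.2.2] at h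
    obtain ⟨m, c, hc, hcw⟩ := c
    obtain ⟨m', c', hc', hcw'⟩ := c'
    have h2 := @exp_injective d n hd ⟨m, c, hc⟩ ⟨m', c', hc'⟩ h
    simp only [Sigma.mk.injEq] at h2
    obtain ⟨rfl, h2⟩ := h2
    rw [heq_eq_eq, Subtype.mk.injEq] at h2
    subst h2
    rfl

/-- the case of a Schubert variety `X(w)` -/
theorem linearIndependent_plRes_sch (hd : 0 < d) (w : Idx d n) :
    LinearIndependent K (fun c : (Σ m : ℕ, {c : Fin m → Idx d n // Antitone c ∧ ∀ k, c k ≤ w}) =>
      plRes K (Sch w) (chainMon K c.2.1)) :=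
  linearIndependent_plRes K hd (Sch w)

/-- coefficientwise form, for relations involving chains in a union of good patterns -/
theorem eq_zero_of_plRes_sum (hd : 0 < d) (W : Set (Fin n → Fin d → Prop)) (hW : ∀ P ∈ W, Good P)
    (l : (Σ m : ℕ, {c : Fin m → Idx d n // Antitone c ∧ ∃ P ∈ W, ∀ k t, P ((c k).1 t) t}) →₀ K)
    (h : ∀ P ∈ W, plRes K P (l.sum fun c a => a • chainMon K c.2.1) = 0) : l = 0 := by
  classical
  ext c0
  obtain ⟨P, hP, hc0⟩ := c0.2.2.2
  have h1 := h P hP
  rw [Finsupp.sum, map_sum] at h1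
  -- drop the terms which vanish on `P`
  have h2 : ∑ c ∈ l.support.filter (fun c => ∀ k t, P ((c.2.1 k).1 t) t), l c • plRes K P (chainMon K c.2.1) = 0 := by
    rw [← h1, Finset.sum_filter]
    apply Finset.sum_congr rfl
    intro c _
    split_ifs with hc
    · rw [map_smul]
    · push Not at hc
      obtain ⟨k, t, hk⟩ := hc
      rw [map_smul, plRes_chainMon_eq_zero K (hW P hP) _ k (fun h => hk (h t)), smul_zero]
  have h3 := linearIndependent_plRes K hd P
  -- the subfamily
  let emb : {c : (Σ m : ℕ, {c : Fin m → Idx d n // Antitone c ∧ ∃ P ∈ W, ∀ k t, P ((c k).1 t) t}) //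
      ∀ k t, P ((c.2.1 k).1 t) t} →
      (Σ m : ℕ, {c : Fin m → Idx d n // Antitone c ∧ ∀ k t, P ((c k).1 t) t}) :=
    fun c => ⟨c.1.1, c.1.2.1, c.1.2.2.1, c.2⟩
  have hemb : Function.Injective emb := by
    rintro ⟨⟨m, c, hc⟩, hcw⟩ ⟨⟨m', c', hc'⟩, hcw'⟩ h
    simp only [emb, Sigma.mk.injEq] at h
    obtain ⟨rfl, h⟩ := h
    rw [heq_eq_eq, Subtype.mk.injEq] at h
    subst h
    rfl
  have h4 := h3.comp emb hemb
  rw [linearIndependent_iff'] at h4
  by_contra hne
  have hmem : c0 ∈ l.support := Finsupp.mem_support_iff.2 hne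
  have h5 := h4 ((l.support.filter (fun c => ∀ k t, P ((c.2.1 k).1 t) t)).attach.map
    ⟨fun c => ⟨c.1, (Finset.mem_filter.1 c.2).2⟩, fun a b hab => Subtype.ext (congrArg (fun x => x.1) hab)⟩)
    (fun c => l c.1) (by
      rw [Finset.sum_map]
      simp only [Function.Embedding.coeFn_mk, Function.comp_apply]
      rw [← h2]
      exact Finset.sum_attach (l.support.filter (fun c => ∀ k t, P ((c.2.1 k).1 t) t))
        (fun c => l c • plRes K P (chainMon K c.2.1))) ⟨c0, hc0⟩ (by
      rw [Finset.mem_map]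
      exact ⟨⟨c0, Finset.mem_filter.2 ⟨hmem, hc0⟩⟩, Finset.mem_attach _ _, rfl⟩)
  exact hne h5

end LI

section points

variable (K : Type u) [CommRing K] {d n : ℕ}

lemma eval_res (P : Fin n → Fin d → Prop) (A : Matrix (Fin n) (Fin d) K)
    (hA : ∀ i j, ¬ P i j → A i j = 0) (f : MatRing K d n) :
    MvPolynomial.eval (fun p => A p.1 p.2) (res K P f) = MvPolynomial.eval (fun p => A p.1 p.2) f := by
  have h3 : ((MvPolynomial.aeval (fun p : Fin n × Fin d => A p.1 p.2)).comp (res K P) : MatRing K d n →ₐ[K] K) =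
      MvPolynomial.aeval (fun p : Fin n × Fin d => A p.1 p.2) := by
    apply MvPolynomial.algHom_ext
    rintro ⟨i, j⟩
    rw [AlgHom.comp_apply]
    by_cases hij : P i j
    · rw [res_X K P _ _ hij]
    · rw [res_X_of_not K P _ _ hij, map_zero, aeval_X, hA i j hij]
  have h4 := DFunLike.congr_fun h3 f
  rw [AlgHom.comp_apply, MvPolynomial.aeval_eq_eval] at h4
  exact h4

lemma eval_minor (A : Matrix (Fin n) (Fin d) K) (a : Fin d → Fin n) :
    MvPolynomial.eval (fun p => A p.1 p.2) (minor K d n a) = (A.submatrix a id).det := by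
  unfold minor
  rw [RingHom.map_det]
  congr 1
  ext s t
  simp [Matrix.submatrix_apply]

/-- matrices with `a_{ij} = 0` unless `P i j` have vanishing minors outside the (good) pattern; for `P = Sch w`:
matrices with `a_{ij} = 0` for `i > w_j` lie in the cone over `X(w)` -/
lemma det_submatrix_eq_zero {P : Fin n → Fin d → Prop} (hP : Good P) (φ : Idx d n) (h : ¬ ∀ t, P (φ.1 t) t)
    (A : Matrix (Fin n) (Fin d) K) (hA : ∀ i j, ¬ P i j → A i j = 0) : (A.submatrix φ.1 id).det = 0 := by
  rw [← eval_minor, ← eval_res K P A hA, res_minor_eq_zero K hP φ h, map_zero]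

lemma eval_pluckerMap (A : Matrix (Fin n) (Fin d) K) (f : PlRing K d n) :
    MvPolynomial.eval (fun p => A p.1 p.2) (pluckerMap K d n f) = evalMinors K d n A f := by
  have h3 : ((MvPolynomial.aeval (fun p : Fin n × Fin d => A p.1 p.2)).comp (pluckerMap K d n) : PlRing K d n →ₐ[K] K) =
      evalMinors K d n A := by
    apply MvPolynomial.algHom_ext
    intro θ
    unfold pluckerMap evalMinors
    rw [AlgHom.comp_apply, aeval_X, aeval_X, MvPolynomial.aeval_eq_eval]
    exact eval_minor K A θ.1
  have h4 := DFunLike.congr_fun h3 f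
  rw [AlgHom.comp_apply, MvPolynomial.aeval_eq_eval] at h4
  exact h4

/-- evaluation of the restricted Plücker comorphism at a matrix supported in the pattern -/
lemma eval_plRes (P : Fin n → Fin d → Prop) (A : Matrix (Fin n) (Fin d) K)
    (hA : ∀ i j, ¬ P i j → A i j = 0) (f : PlRing K d n) :
    MvPolynomial.eval (fun p => A p.1 p.2) (plRes K P f) = evalMinors K d n A f := by
  rw [← eval_pluckerMap]
  exact eval_res K P A hA _

lemma res_res (P : Fin n → Fin d → Prop) (f : MatRing K d n) : res K P (res K P f) = res K P f := by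
  have h : (res K P).comp (res K P) = res K P := by
    apply MvPolynomial.algHom_ext
    rintro ⟨i, j⟩
    rw [AlgHom.comp_apply]
    by_cases hij : P i j
    · rw [res_X K P _ _ hij, res_X K P _ _ hij]
    · rw [res_X_of_not K P _ _ hij, map_zero]
  exact DFunLike.congr_fun h f

open scoped Classical in
lemma eval_res' (P : Fin n → Fin d → Prop) (A : Matrix (Fin n) (Fin d) K) (f : MatRing K d n) :
    MvPolynomial.eval (fun p => A p.1 p.2) (res K P f) =
      MvPolynomial.eval (fun p => (Matrix.of fun i j => if P i j then A i j else 0 : Matrix (Fin n) (Fin d) K) p.1 p.2)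
        f := by
  have h3 : ((MvPolynomial.aeval (fun p : Fin n × Fin d => A p.1 p.2)).comp (res K P) : MatRing K d n →ₐ[K] K) =
      MvPolynomial.aeval (fun p : Fin n × Fin d => (Matrix.of fun i j => if P i j then A i j else 0 :
        Matrix (Fin n) (Fin d) K) p.1 p.2) := by
    apply MvPolynomial.algHom_ext
    rintro ⟨i, j⟩
    rw [AlgHom.comp_apply, aeval_X, Matrix.of_apply]
    by_cases hij : P i j
    · rw [res_X K P _ _ hij, aeval_X]; exact (if_pos hij).symm
    · rw [res_X_of_not K P _ _ hij, map_zero]; exact (if_neg hij).symm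
  have h4 := DFunLike.congr_fun h3 f
  rw [AlgHom.comp_apply, MvPolynomial.aeval_eq_eval, MvPolynomial.aeval_eq_eval] at h4
  exact h4

lemma mem_vanishing_iff (f : PlRing K d n) :
    f ∈ vanishing K d n ↔ ∀ A : Matrix (Fin n) (Fin d) K, evalMinors K d n A f = 0 := by
  unfold vanishing
  rw [Ideal.mem_iInf]
  exact Iff.rfl

lemma mem_schubertVanishing_iff (τ : Idx d n) (f : PlRing K d n) :
    f ∈ schubertVanishing K d n τ ↔ ∀ A : Matrix (Fin n) (Fin d) K,
      (∀ φ : Idx d n, ¬ φ ≤ τ → (A.submatrix φ.1 id).det = 0) → evalMinors K d n A f = 0 := by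
  unfold schubertVanishing
  simp only [Ideal.mem_iInf]
  exact Iff.rfl

lemma X_mem_schubertVanishing (τ φ : Idx d n) (h : ¬ φ ≤ τ) :
    X φ ∈ schubertVanishing K d n τ := by
  rw [mem_schubertVanishing_iff]
  intro A hA
  unfold evalMinors
  rw [aeval_X]
  exact hA φ h

lemma vanishing_le_schubertVanishing (τ : Idx d n) : vanishing K d n ≤ schubertVanishing K d n τ := by
  intro f hf
  rw [mem_vanishing_iff] at hf
  rw [mem_schubertVanishing_iff]
  intro A _
  exact hf A

lemma evalMinors_eq_zero_of_pluckerMap (A : Matrix (Fin n) (Fin d) K) (f : PlRing K d n)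
    (h : pluckerMap K d n f = 0) : evalMinors K d n A f = 0 := by
  rw [← eval_pluckerMap, h, map_zero]

/-- over an infinite domain, `vanishing` is the kernel of the Plücker comorphism -/
theorem mem_vanishing_iff_pluckerMap [IsDomain K] [Infinite K] (f : PlRing K d n) :
    f ∈ vanishing K d n ↔ pluckerMap K d n f = 0 := by
  rw [mem_vanishing_iff]
  constructor
  · intro h
    apply MvPolynomial.funext
    intro x
    have h1 := h (Matrix.of fun i j => x (i, j))
    rw [← eval_pluckerMap] at h1
    rw [map_zero]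
    exact h1
  · intro h A
    exact evalMinors_eq_zero_of_pluckerMap K A f h

/-- over an infinite domain, a Plücker polynomial vanishing at all matrices supported in the pattern is killed by the
restricted Plücker comorphism (and conversely, by `eval_plRes`) -/
theorem plRes_eq_zero_of_eval [IsDomain K] [Infinite K] (P : Fin n → Fin d → Prop) (f : PlRing K d n)
    (hf : ∀ A : Matrix (Fin n) (Fin d) K, (∀ i j, ¬ P i j → A i j = 0) → evalMinors K d n A f = 0) :
    plRes K P f = 0 := by
  classical
  apply MvPolynomial.funext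
  intro x
  rw [map_zero]
  have h1 : MvPolynomial.eval x (plRes K P f) =
      MvPolynomial.eval (fun p : Fin n × Fin d => (Matrix.of fun i j => x (i, j) : Matrix (Fin n) (Fin d) K) p.1 p.2)
        (res K P (pluckerMap K d n f)) := rfl
  rw [h1, eval_res', eval_pluckerMap]
  apply hf
  intro i j hij
  rw [Matrix.of_apply]
  exact if_neg hij

/-- elements of the vanishing ideal of `X(w)` are killed by the restricted Plücker comorphism -/
theorem plRes_eq_zero_of_mem [IsDomain K] [Infinite K] (w : Idx d n) (f : PlRing K d n)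
    (hf : f ∈ schubertVanishing K d n w) : plRes K (Sch w) f = 0 := by
  rw [mem_schubertVanishing_iff] at hf
  apply plRes_eq_zero_of_eval
  intro A hA
  apply hf
  intro φ hφ
  exact det_submatrix_eq_zero K (good_sch w) φ (fun h => hφ h) A hA

/-- standard monomials on a union of Schubert varieties are linearly independent modulo its ideal -/
theorem linearIndependent_mod [IsDomain K] [Infinite K] (hd : 0 < d) (W : Set (Idx d n)) (J : Ideal (PlRing K d n))
    (hJ : ∀ w ∈ W, J ≤ schubertVanishing K d n w) :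
    LinearIndependent K (fun c : (Σ m : ℕ, {c : Fin m → Idx d n // Antitone c ∧ ∃ w ∈ W, ∀ k, c k ≤ w}) =>
      Ideal.Quotient.mk J (chainMon K c.2.1)) := by
  rw [linearIndependent_iff]
  intro l hl
  let e : (Σ m : ℕ, {c : Fin m → Idx d n // Antitone c ∧ ∃ w ∈ W, ∀ k, c k ≤ w}) →
      (Σ m : ℕ, {c : Fin m → Idx d n // Antitone c ∧ ∃ P ∈ Sch '' W, ∀ k t, P ((c k).1 t) t}) :=
    fun c => ⟨c.1, c.2.1, c.2.2.1, by
      obtain ⟨w, hw, h⟩ := c.2.2.2
      exact ⟨Sch w, ⟨w, hw, rfl⟩, h⟩⟩
  have he : Function.Injective e := by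
    rintro ⟨m, c, hc⟩ ⟨m', c', hc'⟩ h
    simp only [e, Sigma.mk.injEq] at h
    obtain ⟨rfl, h⟩ := h
    rw [heq_eq_eq, Subtype.mk.injEq] at h
    subst h
    rfl
  have hsum : ((l.mapDomain e).sum fun c a => a • chainMon K c.2.1) =
      l.sum fun c a => a • chainMon K c.2.1 := by
    rw [Finsupp.sum_mapDomain_index_inj he]
  have h0 := eq_zero_of_plRes_sum K hd (Sch '' W) (by rintro _ ⟨w, _, rfl⟩; exact good_sch w) (l.mapDomain e) (by
    rintro _ ⟨w, hw, rfl⟩
    rw [hsum]
    apply plRes_eq_zero_of_mem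
    apply hJ w hw
    rw [← Ideal.Quotient.eq_zero_iff_mem, ← hl, Finsupp.linearCombination_apply, Finsupp.sum, Finsupp.sum, map_sum]
    rfl)
  exact Finsupp.mapDomain_injective he (by rw [h0, Finsupp.mapDomain_zero])

end points

end K677.LIGr
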